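import Cfsg.Agent.H214.CosetBurn
import Cfsg.Agent.H489.OutSpor
import Cfsg.Agent.H603.SporElim
import Cfsg.Agent.H997.OutHe2
import Cfsg.Agent.S2075
import Cfsg.Agent.H800.Sp.TitsFive
import Cfsg.Agent.S2119
import Cfsg.Agent.OddHalf.Known
import Mathlib
import Cfsg.Agent.H69.CosetPSL2
import Cfsg.Agent.ClassicalGeometry.PSUAutMain
import Cfsg.Agent.ClassicalGeometry.UnitAutBasic
import Cfsg.Agent.H198.SympGamma
import Cfsg.Agent.H69.CosetBldg
import Cfsg.Agent.H69.CosetCox
import Cfsg.Agent.H979.LieSplit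
import Cfsg.Agent.H519.LieRank
import Cfsg.Agent.S2127
import Cfsg.Agent.FastGrp
import Cfsg.Agent.Prune
set_option linter.all false
prune_inst 0x7f00000000000000000000000000000000000000000000000000000000000000000000000000000000000000000000000000000000000000000000000000000000000000000000000000000000000000003fffffffffffffffffffffffffffbeffbdffffffff
open scoped Cfsg.Agent.FastGrp

-- part: H214/CosetSpor
section
/-!
# S3902 for the sporadic groups and the Tits group (helper214)
-/

set_option autoImplicit false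

namespace Cfsg.Agent.H214.CosetSpor

open Cfsg Cfsg.Agent.H214.Coset

universe u

theorem out_congr {N T : Type*} [Group N] [Group T] (h : Nonempty (N ≃* T)) (hT : Nat.card (Out T) = 1) :
    Nat.card (Out N) = 1 := by
  obtain ⟨e⟩ := h
  rw [H55.OutGen.card_out_congr e, hT]

theorem finite_out {N : Type*} [Group N] [Finite N] : Finite (Out N) := by
  have : Finite (MulAut N) := Finite.of_injective (fun f : MulAut N => (f : N → N)) DFunLike.coe_injective
  exact Quotient.finite _

variable {N : Type u} [Group N] [Finite N] [IsSimpleGroup N] {r : ℕ} {w : MulAut N}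

theorem eq_two_spor (h : AllR r w) (hS : IsSporadicGroup N) : r = 2 := by
  have : Finite (Out N) := finite_out
  exact h.eq_two_of_card (H489.card_out_sporadic hS)

theorem prm (hna : ¬ IsMulCommutative N) (h : AllR r w) (hS : IsSporadicGroup N) {m s : ℕ} (hN : Nat.card N = m)
    (hs : s.Prime) (h4 : s % 4 = 3) (hd : s ∣ m) (hn : ¬ s ^ 2 ∣ m) : False := by
  have h2 := eq_two_spor h hS
  subst h2
  subst hN
  exact h.false_of_prime hna hs h4 hd hn

section He

open Cfsg.Spor Cfsg.Spor.He Cfsg.Agent.SporadicB.HePerm Cfsg.Agent.FixBN.HeStab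
open Cfsg.Agent.KFacts.He.Lv Cfsg.Agent.H997.OutHe

theorem b_ne_c : gn .b ≠ gn .c := by
  intro h
  have h1 := congrArg (fun x => ((phi x 0 : Fin 2058) : ℕ)) h
  have h2 := congrArg (fun x => ((phi x 1 : Fin 2058) : ℕ)) h
  have h3 := congrArg (fun x => ((phi x 8 : Fin 2058) : ℕ)) h
  have h4 := congrArg (fun x => ((phi x 32 : Fin 2058) : ℕ)) h
  rw [← wd_one, ← wd_one] at h1 h2 h3 h4
  simp only [phi_wd_apply] at h1 h2 h3 h4
  revert h1 h2 h3 h4
  decide +kernel

theorem he_mul_self (x : Gen) : gn x * gn x = 1 := by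
  have h := pair_pow x x
  have h1 : coxLabel edges x x = 1 := by cases x <;> decide
  rw [h1, pow_one] at h
  exact h

/-- the Held group -/
theorem he {r : ℕ} {w : MulAut Spor.He} (h : AllR r w) : False := by
  have hfin : Finite Spor.He := Nat.finite_of_card_ne_zero (by rw [Cfsg.Agent.S1695.result.2]; norm_num)
  have hsim := Cfsg.Agent.S1695.result.1
  have hna : ¬ IsMulCommutative Spor.He := by
    intro hc
    have h1 : (Nat.card Spor.He).Prime := by
      let _ : CommGroup Spor.He := { (inferInstance : Group Spor.He) with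
        mul_comm := hc.is_comm.comm }
      exact IsSimpleGroup.prime_card
    rw [Cfsg.Agent.S1695.result.2] at h1
    norm_num at h1
  have hZ := center_triv hna
  have hidx : (MulAut.conj : Spor.He →* MulAut Spor.He).range.index = 2 := by
    have := Cfsg.Agent.S2075.result
    rwa [Cfsg.Agent.H997.OutCard.card_out] at this
  have hr : (rho : MulAut Spor.He) ∉ (MulAut.conj : Spor.He →* MulAut Spor.He).range := by
    rintro ⟨k, hk⟩
    exact rho_outer k hk.symm
  have h1 : (rho : MulAut Spor.He) * w⁻¹ ∈ (MulAut.conj : Spor.He →* MulAut Spor.He).range := by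
    rw [Subgroup.mul_mem_iff_of_index_two hidx]
    have h2 := h.outer
    have h3 : w⁻¹ ∉ (MulAut.conj : Spor.He →* MulAut Spor.He).range := fun h4 => h2 ((Subgroup.inv_mem_iff _).1 h4)
    (clear * - hr h3; tauto)
  obtain ⟨n, hn⟩ := h1
  have hrho : AllR r (rho : MulAut Spor.He) := by
    have h2 := h.conj_mul n
    rw [hn, inv_mul_cancel_right] at h2
    exact h2
  have hr2 : r = 2 := hrho.eq_two (by rw [sq, rho_sq])
  subst hr2
  have hbc3 : (gn .b * gn .c) ^ 3 = 1 := by
    have h2 := pair_pow .b .c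
    have h3 : coxLabel edges .b .c = 3 := by decide
    rw [h3] at h2
    exact h2
  have hne : gn .b * gn .c ≠ 1 := by
    intro h2
    apply b_ne_c
    rw [← mul_right_cancel_iff (a := gn .c), h2, he_mul_self]
  refine hrho.not_fix_pow hZ hne hbc3 (by norm_num) ?_
  rw [map_mul, rho_gn, rho_gn]
  rfl

end He

theorem spor (hna : ¬ IsMulCommutative N) (h : AllR r w) (hS : IsSporadicGroup N) : False := by
  have hS0 := hS
  rcases hS with hS | hS | hS | hS | hS | hS | hS | hS | hS | hS | hS | hS | hS | hS | hS | hS | hS | hS | hS | hS |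
    hS | hS | hS | hS | hS | hS
  · exact h.false_of_card (out_congr hS S2060.result)
  · exact prm hna h hS0 (s := 11) (NotCT.Orders.m12 hS) (by norm_num) (by norm_num) (by norm_num) (by norm_num)
  · exact prm hna h hS0 (s := 7) (NotCT.Orders.m22 hS) (by norm_num) (by norm_num) (by norm_num) (by norm_num)
  · exact h.false_of_card (out_congr hS S2063.result)
  · exact h.false_of_card (out_congr hS S2064.result)
  · exact h.false_of_card (out_congr hS S2065.result)
  · exact prm hna h hS0 (s := 7) (NotCT.Orders.j2 hS) (by norm_num) (by norm_num) (by norm_num) (by norm_num)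
  · exact prm hna h hS0 (s := 19) (NotCT.Orders.j3 hS) (by norm_num) (by norm_num) (by norm_num) (by norm_num)
  · exact h.false_of_card (out_congr hS S2068.result)
  · exact h.false_of_card (out_congr hS S2069.result)
  · exact h.false_of_card (out_congr hS S2070.result)
  · exact h.false_of_card (out_congr hS S2071.result)
  · exact prm hna h hS0 (s := 7) (NotCT.Orders.mcl hS) (by norm_num) (by norm_num) (by norm_num) (by norm_num)
  · exact prm hna h hS0 (s := 7) (NotCT.Orders.hs hS) (by norm_num) (by norm_num) (by norm_num) (by norm_num)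
  · exact prm hna h hS0 (s := 7) (NotCT.Orders.suz hS) (by norm_num) (by norm_num) (by norm_num) (by norm_num)
  · obtain ⟨e⟩ := hS
    exact he (h.congr e)
  · exact h.false_of_card (out_congr hS S2077.result)
  · exact prm hna h hS0 (s := 11) (NotCT.Orders.on hS) (by norm_num) (by norm_num) (by norm_num) (by norm_num)
  · exact h.false_of_card (out_congr hS S2076.result)
  · exact prm hna h hS0 (s := 7) (NotCT.Orders.fi22 hS) (by norm_num) (by norm_num) (by norm_num) (by norm_num)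
  · exact h.false_of_card (out_congr hS S2080.result)
  · exact prm hna h hS0 (s := 11) (NotCT.Orders.fi24 hS) (by norm_num) (by norm_num) (by norm_num) (by norm_num)
  · exact prm hna h hS0 (s := 7) (NotCT.Orders.hn hS) (by norm_num) (by norm_num) (by norm_num) (by norm_num)
  · exact h.false_of_card (out_congr hS S2083.result)
  · exact h.false_of_card (out_congr hS S2084.result)
  · exact h.false_of_card (out_congr hS S2085.result)

/-- the Tits group -/
theorem tits (hna : ¬ IsMulCommutative N) (h : AllR r w) (hS : Lie.IsoTits N) : False := by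
  have : Finite (Out N) := finite_out
  have h2 : r = 2 := h.eq_two_of_card (H489.card_out_tits hS)
  subst h2
  have h1 := H800.Sp.TitsFive.oneClass hS
  have h5 : 5 ∣ Nat.card N := by
    rw [NotCT.Orders.tits hS]
    norm_num
  have hF : Fact (Nat.Prime 5) := ⟨Nat.prime_five⟩
  obtain ⟨x, hx⟩ := exists_prime_orderOf_dvd_card' 5 h5
  have hx1 : x ≠ 1 := by
    rintro rfl
    rw [orderOf_one] at hx
    omega
  refine h.not_isConj (center_triv hna) hx1 (by rw [hx]; norm_num) ?_
  rw [isConj_iff]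
  exact h1 x (w x) hx (by rw [MulEquiv.orderOf_eq]; exact hx)

end Cfsg.Agent.H214.CosetSpor
end

-- part: H214/CosetAlt
section
/-!
# S3902 for the alternating groups (degree `≠ 6`)
-/

set_option autoImplicit false

namespace Cfsg.Agent.H214.CosetAlt

open Cfsg.Agent.H214.Coset Equiv

theorem alt {n : ℕ} (hn : 5 ≤ n) (h6 : n ≠ 6) {r : ℕ} {w : MulAut ↥(alternatingGroup (Fin n))} (h : AllR r w) :
    False := by
  obtain ⟨σ, rfl⟩ := (Cfsg.Agent.S2119.result n (by omega) h6).2 w
  have hodd : Perm.sign σ = -1 := by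
    rcases Int.units_eq_one_or (Perm.sign σ) with h1 | h1
    · exfalso
      apply h.outer
      refine ⟨⟨σ, Perm.mem_alternatingGroup.2 h1⟩, ?_⟩
      ext x
      simp only [MulAut.conj_apply, MulAut.conjNormal_apply, _root_.MulAut.conj_apply, _root_.Subgroup.coe_mul, _root_.InvMemClass.coe_inv, _root_.Equiv.Perm.coe_mul, _root_.Equiv.Perm.coe_inv, _root_.Function.comp_apply, _root_.MulAut.conjNormal_apply]
    · exact h1
  let i0 : Fin n := ⟨0, by omega⟩
  let i1 : Fin n := ⟨1, by omega⟩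
  let i2 : Fin n := ⟨2, by omega⟩
  let i3 : Fin n := ⟨3, by omega⟩
  let i4 : Fin n := ⟨4, by omega⟩
  have h01 : i0 ≠ i1 := by simp [i0, i1]
  have h02 : i0 ≠ i2 := by simp [i0, i2]
  have h03 : i0 ≠ i3 := by simp [i0, i3]
  have h04 : i0 ≠ i4 := by simp [i0, i4]
  have h12 : i1 ≠ i2 := by simp [i1, i2]
  have h13 : i1 ≠ i3 := by simp [i1, i3]
  have h14 : i1 ≠ i4 := by simp [i1, i4]
  have h23 : i2 ≠ i3 := by simp [i2, i3]
  have h24 : i2 ≠ i4 := by simp [i2, i4]
  have h34 : i3 ≠ i4 := by simp [i3, i4]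
  set τ : Perm (Fin n) := swap i0 i1 with hτ
  have hτs : Perm.sign τ = -1 := Perm.sign_swap h01
  have hmem : τ * σ⁻¹ ∈ alternatingGroup (Fin n) := by
    rw [Perm.mem_alternatingGroup, map_mul, Perm.sign_inv, hτs, hodd]
    norm_num
  have h1 := h.conj_mul ⟨τ * σ⁻¹, hmem⟩
  have e : (MulAut.conj (⟨τ * σ⁻¹, hmem⟩ : alternatingGroup (Fin n)) * MulAut.conjNormal σ :
      MulAut ↥(alternatingGroup (Fin n))) = MulAut.conjNormal τ := by
    apply MulEquiv.ext
    intro x
    apply Subtype.ext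
    rw [MulAut.mul_apply, MulAut.conj_apply, MulAut.conjNormal_apply]
    simp only [Subgroup.coe_mul, MulAut.conjNormal_apply, InvMemClass.coe_inv]
    group
  rw [e] at h1
  have h2 : r = 2 := by
    apply h1.eq_two
    rw [← map_pow, hτ, pow_two, swap_mul_self, map_one]
  subst h2
  set x : Perm (Fin n) := swap i2 i3 * swap i3 i4 with hx
  have hxs : x ∈ alternatingGroup (Fin n) := by
    rw [Perm.mem_alternatingGroup, hx, map_mul, Perm.sign_swap h23, Perm.sign_swap h34]
    norm_num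
  have hx1 : x ≠ 1 := by
    intro hx1
    have := congrArg (fun f : Perm (Fin n) => f i4) hx1
    simp only [hx, Perm.mul_apply, swap_apply_right, Perm.one_apply] at this
    exact h24 this
  have hcomm : τ * x = x * τ := by
    have d1 : Commute (swap i0 i1) (swap i2 i3) := by
      apply Perm.Disjoint.commute
      intro y
      by_cases hy0 : y = i0
      · right; subst hy0; exact swap_apply_of_ne_of_ne h02 h03
      · by_cases hy1 : y = i1
        · right; subst hy1; exact swap_apply_of_ne_of_ne h12 h13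
        · left; exact swap_apply_of_ne_of_ne hy0 hy1
    have d2 : Commute (swap i0 i1) (swap i3 i4) := by
      apply Perm.Disjoint.commute
      intro y
      by_cases hy0 : y = i0
      · right; subst hy0; exact swap_apply_of_ne_of_ne h03 h04
      · by_cases hy1 : y = i1
        · right; subst hy1; exact swap_apply_of_ne_of_ne h13 h14
        · left; exact swap_apply_of_ne_of_ne hy0 hy1
    exact (d1.mul_right d2).eq
  have hx3 : x ^ 3 = 1 := by
    ext1 y
    simp only [hx, pow_succ, pow_zero, one_mul, Perm.mul_apply, Perm.one_apply]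
    by_cases y2 : y = i2
    · subst y2
      simp [swap_apply_def, h23, h24, h34, h23.symm, h24.symm, h34.symm]
    · by_cases y3 : y = i3
      · subst y3
        simp [swap_apply_def, h23, h24, h34, h23.symm, h24.symm, h34.symm]
      · by_cases y4 : y = i4
        · subst y4
          simp [swap_apply_def, h23, h24, h34, h23.symm, h24.symm, h34.symm]
        · simp [swap_apply_def, y2, y3, y4]
  have hZ : ∀ x : ↥(alternatingGroup (Fin n)), (∀ y, x * y = y * x) → x = 1 := by
    have hs : IsSimpleGroup ↥(alternatingGroup (Fin n)) := by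
      have := alternatingGroup.isSimpleGroup (α := Fin n) (by simpa only [_root_.Nat.card_eq_fintype_card, _root_.Fintype.card_fin] using hn)
      exact this
    refine center_triv ?_
    intro hc
    have ha : swap i0 i1 * swap i1 i2 ∈ alternatingGroup (Fin n) := by
      rw [Perm.mem_alternatingGroup, map_mul, Perm.sign_swap h01, Perm.sign_swap h12]
      norm_num
    have hb : swap i2 i3 * swap i3 i4 ∈ alternatingGroup (Fin n) := hxs
    have h5 := hc.is_comm.comm (⟨_, ha⟩ : ↥(alternatingGroup (Fin n))) ⟨_, hb⟩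
    have h6 := congrArg (fun f : ↥(alternatingGroup (Fin n)) => (f : Perm (Fin n)) i4) h5
    simp [swap_apply_def, h01, h02, h03, h04, h12, h13, h14, h23, h24, h34, h01.symm, h02.symm, h03.symm,
      h04.symm, h12.symm, h13.symm, h14.symm, h23.symm, h24.symm, h34.symm] at h6
  refine h1.not_fix_pow hZ (x := ⟨x, hxs⟩) (fun h3 => hx1 (congrArg Subtype.val h3)) (m := 3) ?_ (by norm_num) ?_
  · apply Subtype.ext
    rw [SubmonoidClass.coe_pow]
    exact hx3
  · apply Subtype.ext
    rw [MulAut.conjNormal_apply]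
    show τ * x * τ⁻¹ = x
    rw [hcomm, mul_inv_cancel_right]

end Cfsg.Agent.H214.CosetAlt
end

-- part: H214/CosetMain
section
/-!
# S3902: reduction to groups of Lie type (helper214)
-/

set_option autoImplicit false

namespace Cfsg.Agent.H214.CosetMain

open Cfsg Cfsg.Agent.H214.Coset

universe u

variable {N : Type u} [Group N] [Finite N] [IsSimpleGroup N] {r : ℕ} {w : MulAut N}

/-- **A known simple group with an outer coset of `r`-elements is of Lie type.** -/
theorem isLie (hna : ¬ IsMulCommutative N) (hK : IsKnownSimple' N) (h : AllR r w) :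
    ∃ p : ℕ, p.Prime ∧ IsLieTypeChar p N := by
  rcases OddHalf.Known.classify' hna hK with hA | hL | hT | hS
  · obtain ⟨n, hn, ⟨e⟩⟩ := hA
    by_cases h6 : n = 6
    · subst h6
      obtain ⟨F, i1, i2, k, h1, h2, f⟩ := H489.isPSL_alt_six e
      obtain ⟨p, hp⟩ := CharP.exists F
      exact ⟨p, CharP.char_is_prime F p, Or.inl ⟨F, i1, i2, hp, k, h1, h2, f⟩⟩
    · exact (CosetAlt.alt hn h6 (h.congr e)).elim
  · exact hL
  · exact (CosetSpor.tits hna h hT).elim
  · exact (CosetSpor.spor hna h hS).elim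

end Cfsg.Agent.H214.CosetMain
end

-- part: H69/CosetUnit
section
/-!
# The class of the unitary transvections

`psu_fixed` : in `PSU_n(q)`, `n ≥ 3`, there is an element `y ≠ 1` of order dividing `q²` such that every automorphism
maps `y` to a conjugate of `y`.
-/

set_option autoImplicit false

namespace Cfsg.Agent.H69.CosetP

open Cfsg Cfsg.Agent.LieClassical Cfsg.Agent.LieClassical.HermBasic Cfsg.Agent.LieClassical.HermSiegel
  Cfsg.Agent.LieClassical.HermGen Cfsg.Agent.LieClassical.SUBasic Matrix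
  Cfsg.Agent.ClassicalGeometry.PSUAutBasic Cfsg.Agent.ClassicalGeometry.PSUAutSylow
  Cfsg.Agent.ClassicalGeometry.PSUAutUnip Cfsg.Agent.ClassicalGeometry.PSUAutPhi
open Cfsg.Agent.ClassicalGeometry.UnitAutBasic (c0 c0_ne_zero c0_tr exists_c0_mul_norm)

variable {F : Type*} [Field F] [Fintype F] {q n : ℕ}

theorem conj_transv (hF : Fintype.card F = q ^ 2) (g : SU n F q) {u : Fin n → F} (hu : hermForm n F q u u = 0)
    {μ : F} (hμ : μ + μ ^ q = 0) (hu' : hermForm n F q (act g u) (act g u) = 0) :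
    g * transv hF u hu μ hμ * g⁻¹ = transv hF (act g u) hu' μ hμ := by
  apply ext_act
  intro x
  rw [act_mul, act_mul, act_transv, act_transv, act_add, act_smul, act_act_inv]
  congr 3
  rw [← herm_act g (act g⁻¹ x) u, act_act_inv]

theorem transv_congr (hF : Fintype.card F = q ^ 2) {u u' : Fin n → F} {hu : hermForm n F q u u = 0}
    {hu' : hermForm n F q u' u' = 0} {μ : F} {hμ : μ + μ ^ q = 0} (h : u = u') :
    transv hF u hu μ hμ = transv hF u' hu' μ hμ := by
  subst h; rfl

theorem pr_transv_ne_one (hF : Fintype.card F = q ^ 2) (hn : 3 ≤ n) {e f : Fin n → F} (H : IsFrame q e f) {μ : F}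
    (hμ : μ + μ ^ q = 0) (h0 : μ ≠ 0) : pr n F q (transv hF e H.ee μ hμ) ≠ 1 := by
  intro h
  obtain ⟨p, hp⟩ := CharP.exists F
  obtain ⟨k, hprime, hcard⟩ := FiniteField.card F p
  have := Fact.mk hprime
  have h1 := siegel_pow_card hF (isSiegel_zero H.ee hμ)
  rw [hcard] at h1
  have h2 := eq_one_of_center_of_pow hF hn (pr_eq_one_iff.1 h) h1
  have h3 : act (transv hF e H.ee μ hμ) f = act 1 f := congrArg (fun g => act g f) h2
  rw [act_one, act_transv, frame_fe hF H, mul_one, add_eq_left] at h3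
  rcases smul_eq_zero.1 h3 with h4 | h4
  · exact h0 h4
  · exact frame_ne_zero H h4

/-- **Every automorphism of `PSU_n(q)` fixes the class of a transvection.** -/
theorem psu_fixed (hF : Fintype.card F = q ^ 2) (hn : 3 ≤ n) :
    ∃ y : PSU n F q, y ≠ 1 ∧ y ^ Fintype.card F = 1 ∧ ∀ α : MulAut (PSU n F q), IsConj y (α y) := by
  obtain ⟨e, f, H⟩ := exists_frame (F := F) (q := q) (n := n) hF (by omega)
  have he0 := frame_ne_zero H
  refine ⟨pr n F q (transv hF e H.ee (c0 hF) (c0_tr hF)), pr_transv_ne_one hF hn H _ (c0_ne_zero hF), ?_, ?_⟩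
  · rw [← map_pow, transv, siegel_pow_card, map_one]
  intro α
  obtain ⟨u', hu0', hu', hmap⟩ := exists_map_RR hF hn α he0 H.ee
  have h1 : α (pr n F q (transv hF e H.ee (c0 hF) (c0_tr hF))) ∈ RR hF u' hu' := by
    rw [← hmap]
    exact Subgroup.mem_map.2 ⟨_, Subgroup.mem_map.2 ⟨_, mem_transvG.2 ⟨_, _, rfl⟩, rfl⟩, rfl⟩
  obtain ⟨g', hg', h2⟩ := Subgroup.mem_map.1 h1
  obtain ⟨ν, hν, rfl⟩ := mem_transvG.1 hg'
  obtain ⟨a, ha⟩ := exists_c0_mul_norm hF hν
  have hν0 : ν ≠ 0 := by
    rintro rfl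
    rw [transv_zero, map_one] at h2
    exact pr_transv_ne_one hF hn H (c0_tr hF) (c0_ne_zero hF) ((map_eq_one_iff α α.injective).1 h2.symm)
  have ha0 : a ≠ 0 := by
    rintro rfl
    rw [zero_mul, mul_zero] at ha
    exact hν0 ha.symm
  have hau : hermForm n F q (a • u') (a • u') = 0 := by
    rw [herm_smul_left, herm_smul_right, hu', mul_zero, mul_zero]
  have h3 : transv hF u' hu' ν hν = transv hF (a • u') hau (c0 hF) (c0_tr hF) := by
    apply ext_act
    intro x
    rw [act_transv, act_transv, herm_smul_right, smul_smul, ← ha]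
    congr 2
    ring
  obtain ⟨g, -, hg⟩ := exists_map_iso hF hn le_rfl (mem_coordSub_top e) (mem_coordSub_top (a • u')) he0
    (smul_ne_zero ha0 hu0') H.ee hau
  rw [← h2, h3, isConj_iff]
  refine ⟨pr n F q g, ?_⟩
  rw [← map_inv, ← map_mul, ← map_mul, conj_transv hF g H.ee (c0_tr hF) (by rw [hg]; exact hau)]
  congr 1
  exact transv_congr hF hg

end Cfsg.Agent.H69.CosetP
end

-- part: H69/CosetSymp
section
/-!
# The class of the short root elements in the symplectic groups

`psp_fixed` : in `PSp_{2m}(F)`, `m ≥ 2`, `|F|` odd, there is an element `y ≠ 1` with `y ^ r = 1`, `r` the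
characteristic, such that every automorphism maps `y` to a conjugate of `y`.
-/

set_option autoImplicit false

namespace Cfsg.Agent.H69.CosetP

open Cfsg Matrix
open Cfsg.Agent.ClassicalGeometry.SympBasic Cfsg.Agent.ClassicalGeometry.SympAutExists

section Mat

variable {F : Type*} [Field F] {m : ℕ} (i j : Fin m)

/-- the short root element -/
def Ym : Matrix (Fin m ⊕ Fin m) (Fin m ⊕ Fin m) F :=
  1 + (single (Sum.inl i) (Sum.inr j) 1 + single (Sum.inl j) (Sum.inr i) 1)

theorem Ym_mulVec (v : Fin m ⊕ Fin m → F) : (Ym i j : Matrix (Fin m ⊕ Fin m) (Fin m ⊕ Fin m) F) *ᵥ v =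
    v + (Pi.single (Sum.inl i) (v (Sum.inr j)) + Pi.single (Sum.inl j) (v (Sum.inr i))) := by
  rw [Ym, add_mulVec, one_mulVec, add_mulVec, single_mulVec, single_mulVec]
  simp only [one_mul]
  rfl

theorem Ym_mem : (Ym i j : Matrix (Fin m ⊕ Fin m) (Fin m ⊕ Fin m) F) ∈ Matrix.symplecticGroup (Fin m) F := by
  rw [mem_symplecticGroup_iff]
  intro u v
  have hs : ∀ (a : F) (k : Fin m), (Pi.single (Sum.inl k) a : Fin m ⊕ Fin m → F) = a • Pi.single (Sum.inl k) 1 := by
    intro a k
    rw [← Pi.single_smul, smul_eq_mul, mul_one]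
  rw [Ym_mulVec, Ym_mulVec, hs (u (Sum.inr j)) i, hs (u (Sum.inr i)) j, hs (v (Sum.inr j)) i, hs (v (Sum.inr i)) j]
  simp only [sympForm_add_left, sympForm_add_right, sympForm_smul_left, sympForm_smul_right,
    sympForm_single_inl_left, sympForm_single_inl_right, Pi.single_apply, reduceCtorEq, if_false, Pi.add_apply,
    Pi.smul_apply, smul_zero, add_zero]
  ring

theorem Ym_map (σ : F ≃+* F) : (Ym i j : Matrix (Fin m ⊕ Fin m) (Fin m ⊕ Fin m) F).map σ = Ym i j := by
  ext a b
  simp only [Ym, Matrix.map_apply, Matrix.add_apply, map_add, Matrix.one_apply, Matrix.single_apply]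
  split_ifs <;> simp only [_root_.map_one, _root_.map_zero, _root_.add_zero, _root_.zero_add]

/-- the diagonal similarity -/
def Dm (l : F) : Matrix (Fin m ⊕ Fin m) (Fin m ⊕ Fin m) F :=
  diagonal (Sum.elim (fun k => if k = i then 1 else l) fun k => if k = i then l else 1)

theorem Dm_mul (l : F) (hij : i ≠ j) : Dm i l * Ym i j = Ym i j * (Dm i l : Matrix (Fin m ⊕ Fin m) (Fin m ⊕ Fin m) F) := by
  rw [Ym, mul_add, add_mul, mul_one, one_mul, mul_add, add_mul]
  congr 2
  · ext a b
    rw [Dm, diagonal_mul, mul_diagonal, single_apply]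
    split_ifs with h
    · obtain ⟨rfl, rfl⟩ := h
      simp [hij.symm]
    · simp
  · ext a b
    rw [Dm, diagonal_mul, mul_diagonal, single_apply]
    split_ifs with h
    · obtain ⟨rfl, rfl⟩ := h
      simp [hij.symm]
    · simp

theorem Dm_form (l : F) (u v : Fin m ⊕ Fin m → F) :
    sympForm m F ((Dm i l : Matrix (Fin m ⊕ Fin m) (Fin m ⊕ Fin m) F) *ᵥ u) (Dm i l *ᵥ v) = l * sympForm m F u v := by
  rw [sympForm_eq_sum, sympForm_eq_sum, Finset.mul_sum]
  refine Finset.sum_congr rfl fun k _ => ?_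
  simp only [Dm, mulVec_diagonal, Sum.elim_inl, Sum.elim_inr]
  split_ifs <;> ring

variable {i j}

theorem psp_fixed [Finite F] (hm : 2 ≤ m) {r : ℕ} [Fact r.Prime] [CharP F r] (hr : r ≠ 2) :
    ∃ y : PSp m F, y ≠ 1 ∧ y ^ r = 1 ∧ ∀ α : MulAut (PSp m F), IsConj y (α y) := by
  have h2 : (2 : F) ≠ 0 := by
    intro h
    have h3 : ((2 : ℕ) : F) = 0 := by exact_mod_cast h
    rw [CharP.cast_eq_zero_iff F r] at h3
    exact hr ((Nat.prime_dvd_prime_iff_eq Fact.out Nat.prime_two).1 h3)
  let i : Fin m := ⟨0, by omega⟩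
  let j : Fin m := ⟨1, by omega⟩
  have hij : i ≠ j := by simp [i, j]
  have hne : Nonempty (Fin m ⊕ Fin m) := ⟨Sum.inl i⟩
  let y : Matrix.symplecticGroup (Fin m) F := ⟨Ym i j, Ym_mem i j⟩
  have hy : (y : Matrix (Fin m ⊕ Fin m) (Fin m ⊕ Fin m) F) = Ym i j := rfl
  have hN : (single (Sum.inl i) (Sum.inr j) 1 + single (Sum.inl j) (Sum.inr i) 1 :
      Matrix (Fin m ⊕ Fin m) (Fin m ⊕ Fin m) F) *
      (single (Sum.inl i) (Sum.inr j) 1 + single (Sum.inl j) (Sum.inr i) 1) = 0 := by
    simp [mul_add, add_mul]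
  refine ⟨QuotientGroup.mk y, ?_, ?_, ?_⟩
  · intro h
    obtain ⟨a, ha⟩ := smul_of_mem_center ((QuotientGroup.eq_one_iff y).1 h)
    have h3 := ha (Pi.single (Sum.inr j : Fin m ⊕ Fin m) 1)
    have h4 := congrFun h3 (Sum.inl i : Fin m ⊕ Fin m)
    have h5 : (y • (Pi.single (Sum.inr j) 1 : Fin m ⊕ Fin m → F)) =
      (Ym i j : Matrix (Fin m ⊕ Fin m) (Fin m ⊕ Fin m) F) *ᵥ (Pi.single (Sum.inr j) 1 : Fin m ⊕ Fin m → F) := rfl
    rw [h5, Ym_mulVec] at h4
    simp [hij] at h4
  · rw [← QuotientGroup.mk_pow]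
    have h3 : y ^ r = 1 := by
      apply Subtype.ext
      rw [SubmonoidClass.coe_pow, hy, Ym]
      rw [add_pow_char_of_commute (R := Matrix (Fin m ⊕ Fin m) (Fin m ⊕ Fin m) F) (p := r) (Commute.one_left _), one_pow]
      have h4 : 2 ≤ r := (Fact.out : r.Prime).two_le
      obtain ⟨k, rfl⟩ := Nat.exists_eq_add_of_le h4
      rw [pow_add, pow_two, hN, zero_mul, add_zero]
      rfl
    rw [h3]
    rfl
  · intro α
    obtain ⟨A, σ, hA, hind⟩ := H198.SympGamma.exists_pair hm (Or.inr h2) α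
    obtain ⟨c, hc⟩ := hA
    -- the symplectic matrix
    have hBmem : (A : Matrix (Fin m ⊕ Fin m) (Fin m ⊕ Fin m) F) * Dm i ((c⁻¹ : Fˣ) : F) ∈
        Matrix.symplecticGroup (Fin m) F := by
      rw [mem_symplecticGroup_iff]
      intro u v
      rw [← mulVec_mulVec, ← mulVec_mulVec, hc, Dm_form, ← mul_assoc, ← Units.val_mul, mul_inv_cancel, Units.val_one,
        one_mul]
    let B : Matrix.symplecticGroup (Fin m) F := ⟨_, hBmem⟩
    have hB : (B : Matrix (Fin m ⊕ Fin m) (Fin m ⊕ Fin m) F) = (A : Matrix (Fin m ⊕ Fin m) (Fin m ⊕ Fin m) F) *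
      Dm i ((c⁻¹ : Fˣ) : F) := rfl
    rw [isConj_iff]
    refine ⟨QuotientGroup.mk B, ?_⟩
    rw [hind y (B * y * B⁻¹) ?_]
    · rfl
    · rw [hy, Ym_map]
      -- cancel on the right
      have h3 : ((B * y * B⁻¹ : Matrix.symplecticGroup (Fin m) F) : Matrix (Fin m ⊕ Fin m) (Fin m ⊕ Fin m) F) *
          (B : Matrix (Fin m ⊕ Fin m) (Fin m ⊕ Fin m) F) = (B : Matrix (Fin m ⊕ Fin m) (Fin m ⊕ Fin m) F) * Ym i j := by
        change ((B * y * B⁻¹ * B : Matrix.symplecticGroup (Fin m) F) : Matrix (Fin m ⊕ Fin m) (Fin m ⊕ Fin m) F) = _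
        rw [inv_mul_cancel_right]
        rfl
      have hdet : (B : Matrix (Fin m ⊕ Fin m) (Fin m ⊕ Fin m) F) * ((B⁻¹ : Matrix.symplecticGroup (Fin m) F) :
          Matrix (Fin m ⊕ Fin m) (Fin m ⊕ Fin m) F) = 1 := by
        change ((B * B⁻¹ : Matrix.symplecticGroup (Fin m) F) : Matrix (Fin m ⊕ Fin m) (Fin m ⊕ Fin m) F) = _
        rw [mul_inv_cancel]
        rfl
      have h4 : (A : Matrix (Fin m ⊕ Fin m) (Fin m ⊕ Fin m) F) * Ym i j * ((A⁻¹ : GL (Fin m ⊕ Fin m) F) :
          Matrix (Fin m ⊕ Fin m) (Fin m ⊕ Fin m) F) * (B : Matrix (Fin m ⊕ Fin m) (Fin m ⊕ Fin m) F) =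
          (B : Matrix (Fin m ⊕ Fin m) (Fin m ⊕ Fin m) F) * Ym i j := by
        rw [hB, mul_assoc _ ((A⁻¹ : GL (Fin m ⊕ Fin m) F) : Matrix (Fin m ⊕ Fin m) (Fin m ⊕ Fin m) F),
          ← mul_assoc ((A⁻¹ : GL (Fin m ⊕ Fin m) F) : Matrix (Fin m ⊕ Fin m) (Fin m ⊕ Fin m) F), ← Units.val_mul,
          inv_mul_cancel, Units.val_one, one_mul, mul_assoc, ← Dm_mul i j _ hij, mul_assoc]
      calc ((B * y * B⁻¹ : Matrix.symplecticGroup (Fin m) F) : Matrix (Fin m ⊕ Fin m) (Fin m ⊕ Fin m) F)
          = ((B * y * B⁻¹ : Matrix.symplecticGroup (Fin m) F) : Matrix (Fin m ⊕ Fin m) (Fin m ⊕ Fin m) F) *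
            ((B : Matrix (Fin m ⊕ Fin m) (Fin m ⊕ Fin m) F) * ((B⁻¹ : Matrix.symplecticGroup (Fin m) F) :
              Matrix (Fin m ⊕ Fin m) (Fin m ⊕ Fin m) F)) := by rw [hdet, mul_one]
        _ = (A : Matrix (Fin m ⊕ Fin m) (Fin m ⊕ Fin m) F) * Ym i j * ((A⁻¹ : GL (Fin m ⊕ Fin m) F) :
            Matrix (Fin m ⊕ Fin m) (Fin m ⊕ Fin m) F) * ((B : Matrix (Fin m ⊕ Fin m) (Fin m ⊕ Fin m) F) *
              ((B⁻¹ : Matrix.symplecticGroup (Fin m) F) : Matrix (Fin m ⊕ Fin m) (Fin m ⊕ Fin m) F)) := by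
          rw [← mul_assoc, h3, ← h4, mul_assoc]
        _ = _ := by rw [hdet, mul_one]

end Mat

end Cfsg.Agent.H69.CosetP
end

-- part: H69/CosetLie
section
/-!
# Cosets of automorphisms of prime power order: groups of Lie type

`lie_core` : let `K` be a finite simple group of Lie type, `u` an automorphism of `K`, not inner, `p` a prime, all the
elements `conj n * u` having order a power of `p`. Then `p = 2` and `K ≅ PSL₂(3 ^ 2 ^ l)`, `l ≥ 1`.
-/

set_option autoImplicit false

namespace Cfsg.Agent.H69.CosetP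

open Cfsg
open Cfsg.Agent.Omega.ML.Ex.Typ (HasRGDT HasRGDT.hasSplitT HasRGDT.of_equiv HasSplitT typ_PSL typ_C typ_PO_minus
  typ_PO_plus typ_of_exc typ_twE6 typ_twD4)
open Cfsg.Agent.LieRecognition.BNCox (cA)

section Odd

open QuadraticMap
open Cfsg.Agent.LieClassical Cfsg.Agent.LieClassical.OrthCore Cfsg.Agent.LieClassical.OrthTrans
open Cfsg.Agent.LieClassical.OrthSimple Cfsg.Agent.LieClassical.OrthFinite
open Cfsg.Agent.LieClassical.OrthForms
open Cfsg.Agent.TitsThree.KSideO Cfsg.Agent.TitsThree.StdData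
open Cfsg.Agent.Nodes Cfsg.Agent.Nodes.WittAll Cfsg.Agent.Nodes.WittU Cfsg.Agent.Nodes.WittInst
  Cfsg.Agent.TitsThree.Siegel Cfsg.Agent.TitsThree.SiegelGen
  Cfsg.Agent.TitsThree.WittFrame Cfsg.Agent.TitsThree.WBridge Cfsg.Agent.TitsThree.WittWeyl
  Cfsg.Agent.TitsThree.FrameCN

/-- **`PΩ_{2m+1}(F)`, odd characteristic.** -/
theorem typ_PO_odd {F : Type*} [Field F] {m : ℕ} [Finite F] (h2 : (2 : F) ≠ 0) (hm : 2 ≤ m) {p : ℕ} [Fact p.Prime]
    [CharP F p] : HasRGDT p (CoxeterMatrix.B m) (Cfsg.POmega F (Cfsg.quadFormOdd m F)) := by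
  rw [← coe_oddForm]
  have hG : Good (oddForm m F) := by
    apply good_of_finite (nondeg_oddForm m F h2)
    rw [Module.finrank_fintype_fun_eq_card, Fintype.card_sum, Fintype.card_sum, Fintype.card_fin,
      Fintype.card_unit]
    omega
  have hp : ((embOdd m F).ngt ⟨1, -1 ^ 2, rfl⟩).c ≠ 0 := by
    change (1 : F)⁻¹ * (-1 ^ 2) ≠ 0
    simp
  exact typ_C (model (wodd m F) hG ⟨_, hp⟩) (AmbT.of_amb (amb_O_of_two _ h2) p) hp (by omega)

end Odd

/-- the Weyl group argument -/
theorem kill.{v} {K : Type v} [Group K] [Finite K] [IsSimpleGroup K] {r : ℕ} (hr : r.Prime) {l : ℕ}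
    {M : CoxeterMatrix (Fin l)} (hl : 0 < l) (h : HasRGDT r M K) (hM : ¬ Cox2.{0, v} M) {u : MulAut K}
    (hu : PCos 2 u) : False := by
  have : Fact r.Prime := ⟨hr⟩
  have : Nonempty (Fin l) := ⟨⟨0, hl⟩⟩
  obtain ⟨P, U, e, S, hT⟩ := h.hasSplitT hr hl
  exact hM (weyl S hT hu)

theorem false_of_fixed {K : Type*} [Group K] (hc : Subgroup.center K = ⊥) {u : MulAut K} (hu : PCos 2 u) {y : K}
    (hy : y ≠ 1) {n : ℕ} (hn : Odd n) (hyn : y ^ n = 1) (h : IsConj y (u y)) : False := by
  obtain ⟨k, hk⟩ := hu.of_isConj hc h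
  have h1 := orderOf_dvd_of_pow_eq_one hk
  have h2 := orderOf_dvd_of_pow_eq_one hyn
  have h3 : (2 ^ k).Coprime n := Nat.Coprime.pow_left k (Nat.coprime_two_left.2 hn)
  have h4 := Nat.dvd_gcd h1 h2
  rw [Nat.Coprime.gcd_eq_one h3, Nat.dvd_one, orderOf_eq_one_iff] at h4
  exact hy h4

theorem center_congr {K L : Type*} [Group K] [Group L] (e : K ≃* L) (hc : Subgroup.center K = ⊥) :
    Subgroup.center L = ⊥ := by
  rw [eq_bot_iff]
  intro z hz
  have h1 : e.symm z ∈ Subgroup.center K := by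
    rw [Subgroup.mem_center_iff]
    intro g
    apply e.injective
    rw [map_mul, map_mul, e.apply_symm_apply]
    exact Subgroup.mem_center_iff.1 hz (e g)
  rw [hc, Subgroup.mem_bot] at h1
  rw [Subgroup.mem_bot, ← e.apply_symm_apply z, h1, map_one]

theorem false_of_fixed_congr {K L : Type*} [Group K] [Group L] (e : K ≃* L) (hc : Subgroup.center K = ⊥)
    {u : MulAut K} (hu : PCos 2 u) {y : L} (hy : y ≠ 1) {n : ℕ} (hn : Odd n) (hyn : y ^ n = 1)
    (h : ∀ α : MulAut L, IsConj y (α y)) : False :=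
  false_of_fixed (center_congr e hc) (hu.congr e) hy hn hyn (h _)

theorem odd_card {F : Type*} [Field F] [Fintype F] {r : ℕ} (hr : r.Prime) [CharP F r] (hr2 : r ≠ 2) :
    Odd (Fintype.card F) := by
  obtain ⟨n, -, hn⟩ := FiniteField.card F r
  rw [hn]
  exact (hr.odd_of_ne_two hr2).pow

/-- the groups of Ree have no outer automorphisms of `2`-power order -/
theorem ree_false {K : Type*} [Group K] {u : MulAut K} (hu : PCos 2 u) (h : Lie.IsoRee K)
    (hout : u ∉ (MulAut.conj : K →* MulAut K).range) : False := by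
  obtain ⟨F, i1, i2, m, hm, hF, ⟨e⟩⟩ := h
  have h1 := Cfsg.Agent.S2127.result hm hF
  have h2 := not_inner_congr e hout
  obtain ⟨k, hk⟩ := (hu.congr e).self
  set v := MulAut.congr e u with hv
  have : Finite (Cfsg.Out ↥(Cfsg.Lie.twistedG2 F (3 ^ m))) := Nat.finite_of_card_ne_zero (by rw [h1]; omega)
  have h3 : (QuotientGroup.mk v : Cfsg.Out ↥(Cfsg.Lie.twistedG2 F (3 ^ m))) ^ (2 ^ k) = 1 := by
    rw [← QuotientGroup.mk_pow, hk]; rfl
  have h4 : (QuotientGroup.mk v : Cfsg.Out ↥(Cfsg.Lie.twistedG2 F (3 ^ m))) ^ (2 * m + 1) = 1 := by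
    rw [← h1]; exact pow_card_eq_one'
  have h5 := Nat.dvd_gcd (orderOf_dvd_of_pow_eq_one h3) (orderOf_dvd_of_pow_eq_one h4)
  have h6 : (2 ^ k).Coprime (2 * m + 1) := Nat.Coprime.pow_left k (by simp)
  rw [Nat.Coprime.gcd_eq_one h6, Nat.dvd_one, orderOf_eq_one_iff] at h5
  exact h2 ((QuotientGroup.eq_one_iff _).1 h5)

/-- **Odd characteristic, `p = 2`.** -/
theorem lie_core_odd.{v} {K : Type v} [Group K] [Finite K] [IsSimpleGroup K] (hc : Subgroup.center K = ⊥) {r : ℕ}
    (hr : r.Prime) (hr2 : r ≠ 2) (hL : IsLieTypeChar r K) {u : MulAut K}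
    (hout : u ∉ (MulAut.conj : K →* MulAut K).range) (hu : PCos 2 u) :
    ∃ (F : Type) (_ : Field F) (_ : Fintype F) (l : ℕ), 1 ≤ l ∧ Fintype.card F = 3 ^ 2 ^ l ∧
      Nonempty (K ≃* Matrix.ProjectiveSpecialLinearGroup (Fin 2) F) := by
  have hrf : Fact r.Prime := ⟨hr⟩
  rcases hL with h | h | h | h | h | h | h | h | h | h | h
  · obtain ⟨F, i1, i2, i3, n, hn, h4, ⟨e⟩⟩ := h
    rcases Nat.lt_or_ge n 3 with h3 | h3
    · obtain rfl : n = 2 := by omega
      obtain ⟨l, hl, hF⟩ := psl_two_core (F := F) (r := r) hr2 (by rw [Nat.card_eq_fintype_card]; exact h4 rfl)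
        (center_congr e hc) (hu.congr e) (not_inner_congr e hout)
      rw [Nat.card_eq_fintype_card] at hF
      exact ⟨F, i1, i2, l, hl, hF, ⟨e⟩⟩
    · exfalso
      obtain ⟨n, rfl⟩ := Nat.exists_eq_add_of_le' (by omega : 1 ≤ n)
      exact kill hr (by omega) ((typ_PSL (p := r) n).of_equiv e.symm) (not_cA (by omega)) hu
  · exfalso
    obtain ⟨F, i1, i2, i3, m, hm, -, ⟨e⟩⟩ := h
    obtain ⟨y, hy, hyr, hfix⟩ := psp_fixed (F := F) hm (r := r) hr2
    exact false_of_fixed_congr e hc hu hy (hr.odd_of_ne_two hr2) hyr hfix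
  · exfalso
    obtain ⟨F, i1, i2, i3, n, q, hF, hn, -, ⟨e⟩⟩ := h
    obtain ⟨y, hy, hyr, hfix⟩ := psu_fixed (F := F) hF hn
    exact false_of_fixed_congr e hc hu hy (odd_card hr hr2) hyr hfix
  · exfalso
    obtain ⟨F, i1, i2, i3, m, hm, -, ⟨e⟩⟩ := h
    have h2 : (2 : F) ≠ 0 := by
      intro h
      have h3 : ((2 : ℕ) : F) = 0 := by exact_mod_cast h
      rw [CharP.cast_eq_zero_iff F r] at h3
      exact hr2 ((Nat.prime_dvd_prime_iff_eq hr Nat.prime_two).1 h3)
    exact kill hr (by omega) ((typ_PO_odd (p := r) h2 (by omega)).of_equiv e.symm) (not_B hm) hu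
  · exfalso
    obtain ⟨F, i1, i2, i3, m, hm, ⟨e⟩⟩ := h
    obtain ⟨n, rfl⟩ : ∃ n, m = n + 3 := ⟨m - 3, by omega⟩
    exact kill hr (by omega) ((typ_PO_plus (p := r) n).of_equiv e.symm) (not_D (by omega)) hu
  · exfalso
    obtain ⟨F, i1, i2, i3, m, a, b, hm, hab, ⟨e⟩⟩ := h
    exact kill hr (by omega) ((typ_PO_minus (p := r) hab (by omega)).of_equiv e.symm) (not_B (by omega)) hu
  · exfalso
    rcases typ_of_exc h with h | h | h | h | h
    · exact kill hr (by omega) h not_G2 hu
    · exact kill hr (by omega) h not_F4 hu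
    · exact kill hr (by omega) h not_E6 hu
    · exact kill hr (by omega) h not_E7 hu
    · exact kill hr (by omega) h not_E8 hu
  · exfalso
    obtain ⟨F, i1, i2, i3, q, hq, ⟨hF, ⟨e⟩⟩ | ⟨hF, ⟨e⟩⟩⟩ := h
    · exact kill hr (by omega) ((typ_twE6 hq hF r).of_equiv e.symm) not_F4 hu
    · exact kill hr (by omega) ((typ_twD4 hq hF r).of_equiv e.symm) not_G2 hu
  · exact absurd h.1 hr2
  · exact absurd h.1 hr2
  · exact (ree_false hu h.2 hout).elim

/-- **The groups of Lie type.** -/
theorem lie_core.{v} {K : Type v} [Group K] [Finite K] [IsSimpleGroup K] (hna : ∃ a b : K, a * b ≠ b * a) {r : ℕ}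
    (hr : r.Prime) (hL : IsLieTypeChar r K) {u : MulAut K} (hout : u ∉ (MulAut.conj : K →* MulAut K).range) {p : ℕ}
    (hp : p.Prime) (hu : ∀ n : K, ∃ k : ℕ, (MulAut.conj n * u) ^ p ^ k = 1) :
    p = 2 ∧ ∃ (F : Type) (_ : Field F) (_ : Fintype F) (l : ℕ), 1 ≤ l ∧ Fintype.card F = 3 ^ 2 ^ l ∧
      Nonempty (K ≃* Matrix.ProjectiveSpecialLinearGroup (Fin 2) F) := by
  have hrf : Fact r.Prime := ⟨hr⟩
  have hS := H979.LieSplit.hasSplit_of_isLieTypeChar hr hL
  obtain rfl : p = 2 := by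
    by_contra h2
    exact not_pCos_of_odd hS (hp.odd_of_ne_two h2) u hu
  have hr2 : r ≠ 2 := by
    rintro rfl
    exact not_pCos_char hS u hu
  exact ⟨rfl, lie_core_odd (center_eq_bot hna) hr hr2 hL hout hu⟩

end Cfsg.Agent.H69.CosetP
end

private theorem dce_dde6b28491ac : _root_.True := by
  try have : _root_.True := by simp only [_root_.Cfsg.Agent.H69.CosetP.Dm.eq_1]
  try have : _root_.True := by simp only [_root_.Cfsg.Agent.H69.CosetP.Ym.eq_1]
  exact _root_.True.intro
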